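import Cfsg.Agent.Y16.Base

/-! The Sylow 2-subgroup of `A₁₂` as a computable group `T = V ⋊ D8` (notes/O7.md): the model. -/

set_option autoImplicit false
set_option maxRecDepth 100000
set_option synthInstance.maxSize 4096

namespace Cfsg.Agent.O7

open Cfsg.Agent.H78 Cfsg.Agent.H14 Subgroup Equiv
open Cfsg.Agent.Y16 (X)

/-- the elementary abelian group `A` of order 64: even vectors on seven points, the last bit dropped -/
abbrev V : Type := X 6
/-- the elementary abelian group of order 32: even vectors on six letters, the last bit dropped -/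
abbrev W : Type := X 5

theorem mem_of_bs6 {K : Subgroup V} (h : ∀ i, X.bs i ∈ K) (x : V) : x ∈ K := by
  induction hx : x.val using Nat.strong_induction_on generalizing x with
  | _ k ih =>
  rcases (by decide +kernel : ∀ x : V, x = 1 ∨ ∃ i : Fin 6, (x * X.bs i).val < x.val) x with rfl | ⟨i, hi⟩
  · exact one_mem _
  · have := mul_mem (ih _ (hx ▸ hi) _ rfl) (h i)
    rwa [mul_assoc, X.sq, mul_one] at this

theorem mem_of_bs5 {K : Subgroup W} (h : ∀ i, X.bs i ∈ K) (x : W) : x ∈ K := by
  induction hx : x.val using Nat.strong_induction_on generalizing x with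
  | _ k ih =>
  rcases (by decide +kernel : ∀ x : W, x = 1 ∨ ∃ i : Fin 5, (x * X.bs i).val < x.val) x with rfl | ⟨i, hi⟩
  · exact one_mem _
  · have := mul_mem (ih _ (hx ▸ hi) _ rfl) (h i)
    rwa [mul_assoc, X.sq, mul_one] at this

theorem hom_ext6 {H : Type*} [Group H] {f g : V →* H} (h : ∀ i, f (X.bs i) = g (X.bs i)) : f = g :=
  MonoidHom.ext fun x => mem_of_bs6 (K := f.eqLocus g) h x

theorem hom_ext5 {H : Type*} [Group H] {f g : W →* H} (h : ∀ i, f (X.bs i) = g (X.bs i)) : f = g :=
  MonoidHom.ext fun x => mem_of_bs5 (K := f.eqLocus g) h x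

theorem aut_ext6 {f g : MulAut V} (h : ∀ i, f (X.bs i) = g (X.bs i)) : f = g :=
  MulEquiv.ext fun x => DFunLike.congr_fun (hom_ext6 (f := f.toMonoidHom) (g := g.toMonoidHom) h) x

theorem aut_ext5 {f g : MulAut W} (h : ∀ i, f (X.bs i) = g (X.bs i)) : f = g :=
  MulEquiv.ext fun x => DFunLike.congr_fun (hom_ext5 (f := f.toMonoidHom) (g := g.toMonoidHom) h) x

/-- the dihedral group of order eight: the number with bits `b₀ b₁ b₂` is `c^{b₀} u^{b₁} s^{b₂}` -/
def D8 : Type := Fin 8

namespace D8

instance instDecEqD : DecidableEq D8 := inferInstanceAs (DecidableEq (Fin 8))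
instance instFintypeD : Fintype D8 := inferInstanceAs (Fintype (Fin 8))
instance instDecAllD (p : D8 → Prop) [h : DecidablePred p] : Decidable (∀ a, p a) :=
  @Nat.decidableForallFin 8 p h
instance instDecExD (p : D8 → Prop) [h : DecidablePred p] : Decidable (∃ a, p a) :=
  @Nat.decidableExistsFin 8 p h

def val (a : D8) : ℕ := Fin.val (n := 8) a
def mk (k : ℕ) : D8 := (⟨Nat.mod k 8, Nat.mod_lt _ (by decide)⟩ : Fin 8)
def mul (a b : D8) : D8 :=
  mk (Nat.xor (Nat.xor a.val b.val) (Nat.land (Nat.shiftRight a.val 2) (Nat.land (Nat.shiftRight b.val 1) 1)))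
def inv (a : D8) : D8 := mul a (mul a a)

instance instGroupD : Group D8 where
  mul := mul
  one := mk 0
  inv := inv
  mul_assoc := (by decide +kernel : ∀ a b c : D8, mul (mul a b) c = mul a (mul b c))
  one_mul := (by decide +kernel : ∀ a : D8, mul (mk 0) a = a)
  mul_one := (by decide +kernel : ∀ a : D8, mul a (mk 0) = a)
  inv_mul_cancel := (by decide +kernel : ∀ a : D8, mul (inv a) a = mk 0)

theorem card : Nat.card D8 = 8 := Nat.card_fin _

end D8

/-- `(01)(23)` -/
abbrev dc : D8 := D8.mk 1
/-- `(23)(45)` -/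
abbrev du : D8 := D8.mk 2
/-- `(02)(13)` -/
abbrev ds : D8 := D8.mk 4

/-- the image of the point `j` under `p` -/
def pf (p : D8) (j : Fin 7) : Fin 7 :=
  ⟨Nat.mod (Nat.land (Nat.shiftRight (nat_lit 0x645013206451023065401230654103206453201064523100654230106543210) (Nat.mul 4 (Nat.add (Nat.mul 8 p.val) j.val))) 15) 7,
    Nat.mod_lt _ (by decide)⟩

theorem pf_mul : ∀ p q : D8, ∀ j, pf (p * q) j = pf p (pf q j) := by decide +kernel
theorem pf_one : ∀ j, pf 1 j = j := by decide +kernel

/-- `D8` as a Sylow 2-subgroup of `A₇` -/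
def pm : D8 →* Perm (Fin 7) := MonoidHom.mk'
  (fun p => ⟨pf p, pf p⁻¹, fun j => by rw [← pf_mul, inv_mul_cancel, pf_one],
    fun j => by rw [← pf_mul, mul_inv_cancel, pf_one]⟩) fun p q => Equiv.ext (pf_mul p q)

theorem pm_apply (p : D8) (j : Fin 7) : pm p j = pf p j := rfl

def actT : ℕ := nat_lit 0x3f3b37333d3935313e3a36323c3834301f1b17131d1915111e1a16121c1814102f2b27232d2925212e2a26222c2824200f0b07030d0905010e0a06020c0804003f373b333e363a323d3539313c3438301f171b131e161a121d1519111c1418102f272b232e262a222d2529212c2428200f070b030e060a020d0509010c0408003f373b333d3539313e363a323c3438302f272b232d2529212e262a222c2428201f171b131d1519111e161a121c1418100f070b030d0509010e060a020c0408003f3b37333e3a36323d3935313c3834302f2b27232e2a26222d2925212c2824201f1b17131e1a16121d1915111c1814100f0b07030e0a06020d0905010c0804003f3d3e3c3b393a3837353634333132301f1d1e1c1b191a1817151614131112102f2d2e2c2b292a2827252624232122200f0d0e0c0b090a0807050604030102003f3e3d3c373635343b3a3938333231301f1e1d1c171615141b1a1918131211102f2e2d2c272625242b2a2928232221200f0e0d0c070605040b0a0908030201003f3d3e3c373536343b393a38333132302f2d2e2c272526242b292a28232122201f1d1e1c171516141b191a18131112100f0d0e0c070506040b090a08030102003f3e3d3c3b3a393837363534333231302f2e2d2c2b2a292827262524232221201f1e1d1c1b1a191817161514131211100f0e0d0c0b0a09080706050403020100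

def actF (p : D8) (x : V) : V :=
  X.mk 6 (Nat.shiftRight actT (Nat.mul 8 (Nat.add (Nat.mul 64 p.val) x.val)))

theorem actF_mul : ∀ p : D8, ∀ x y : V, actF p (x * y) = actF p x * actF p y := by decide +kernel
theorem actF_comp : ∀ p q : D8, ∀ x : V, actF (p * q) x = actF p (actF q x) := by decide +kernel
theorem actF_one : ∀ x, actF 1 x = x := by decide +kernel

/-- `D8` permutes the coordinates -/
def act : D8 →* MulAut V := MonoidHom.mk'
  (fun p => ⟨⟨actF p, actF p⁻¹, fun x => by rw [← actF_comp, inv_mul_cancel, actF_one],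
    fun x => by rw [← actF_comp, mul_inv_cancel, actF_one]⟩, actF_mul p⟩) fun p q => MulEquiv.ext (actF_comp p q)

/-- the Sylow 2-subgroup of `A₁₂` -/
abbrev T : Type := V ⋊[act] D8

instance instDecEqT : DecidableEq T := fun a b =>
  decidable_of_iff (a.left = b.left ∧ a.right = b.right) SemidirectProduct.ext_iff.symm

noncomputable instance instDecAllT (p : T → Prop) [DecidablePred p] : Decidable (∀ a, p a) :=
  decidable_of_iff (∀ q : D8, ∀ a : V, p ⟨a, q⟩) ⟨fun h a => h a.right a.left, fun h _ _ => h _⟩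

noncomputable instance instDecExT (p : T → Prop) [DecidablePred p] : Decidable (∃ a, p a) :=
  decidable_of_iff (∃ q : D8, ∃ a : V, p ⟨a, q⟩) ⟨fun ⟨_, _, h⟩ => ⟨_, h⟩, fun ⟨a, h⟩ => ⟨a.right, a.left, h⟩⟩

instance instFiniteT : Finite T := Finite.of_equiv _ SemidirectProduct.equivProd.symm

theorem card_T : Nat.card T = 2 ^ 9 := by rw [SemidirectProduct.card, X.card, D8.card]; norm_num

theorem pT : IsPGroup 2 T := IsPGroup.of_card card_T

/-- the inclusion of `A` -/
abbrev ia : V →* T := SemidirectProduct.inl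
/-- the inclusion of the complement -/
abbrev ip : D8 →* T := SemidirectProduct.inr

/-! ### names in `V` -/

/-- parity of the six bits: the coordinate number 6 -/
def par (x : V) : Bool := Nat.testBit (nat_lit 0x6996966996696996) x.val
/-- the seven coordinates -/
def co (x : V) (i : Fin 7) : Bool := Nat.testBit (Nat.lor x.val (cond (par x) 64 0)) i.val
/-- `u_i = e_i + e_6` -/
def uu (i : Fin 7) : V := X.mk 6 (2 ^ i.val)
/-- `e_i + e_j` -/
def ee (i j : Fin 7) : V := X.mk 6 (Nat.xor (2 ^ i.val) (2 ^ j.val))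
/-- the vector with all coordinates except the `i`-th -/
def zi (i : Fin 7) : V := X.mk 6 (Nat.xor 63 (2 ^ i.val))
/-- the central involution `z = z_6` -/
def zz : V := X.mk 6 63
/-- `v_i = e_{2i} + e_{2i+1}` -/
def vv (i : Fin 3) : V := X.mk 6 (Nat.shiftLeft 3 (2 * i.val))
/-- `a = v_0 v_1` -/
def va : V := X.mk 6 15
/-- the weight: 0, 2, 4 or 6 -/
def wt (x : V) : ℕ := (Finset.univ.filter fun i : Fin 7 => co x i = true).card
/-- the number of non-zero blocks of two bits -/
def ty (x : V) : ℕ := (Finset.univ.filter fun i : Fin 3 => Nat.land x.val (vv i).val ≠ 0).card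
/-- the subgroup of `V` given by a decidable predicate -/
def subV (p : V → Bool) (h : p 1 = true ∧ ∀ a, p a = true → ∀ b, p b = true → p (a * b) = true) : Subgroup V where
  carrier := {a | p a = true}
  mul_mem' := fun {a b} ha hb => h.2 a ha b hb
  one_mem' := h.1
  inv_mem' := id
instance instDecSubV (p h) : DecidablePred (· ∈ subV p h) := fun a => inferInstanceAs (Decidable (p a = true))
/-- `U = ⟨a, e_{46}, e_{56}⟩ = ⟨z_4, z_5, z_6⟩` -/
abbrev UU : Subgroup V := subV (fun x => Nat.beq (Nat.land x.val 15) 0 || Nat.beq (Nat.land x.val 15) 15) (by decide +kernel)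
/-- `C = ⟨v_0, v_1, v_2⟩` -/
abbrev CC : Subgroup V := subV (fun x => Nat.beq (Nat.land x.val 21) (Nat.land (Nat.shiftRight x.val 1) 21)) (by decide +kernel)
/-- the parity of the first four bits -/
def p4 (x : V) : Bool := Nat.testBit (nat_lit 0x6996) (Nat.land x.val 15)

theorem co_mul : ∀ x y : V, ∀ i, co (x * y) i = xor (co x i) (co y i) := by decide +kernel
theorem par_mul : ∀ x y : V, par (x * y) = xor (par x) (par y) := by decide +kernel
theorem ee_eq : ∀ i j, ee i j = uu i * uu j := by decide +kernel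
theorem zi_six : zi 6 = zz := by decide +kernel
theorem zi_mul : ∀ i j, zi i * zi j = ee i j := by decide +kernel

def natH (g : Perm (Fin 7)) : V →* V := X.lift (fun i => uu (g i.castSucc) * uu (g 6)) fun _ => X.sq _

theorem natH_uu (g : Perm (Fin 7)) (i : Fin 7) : natH g (uu i) = uu (g i) * uu (g 6) := by
  refine Fin.lastCases ?_ (fun i => X.lift_bs _ _ i) i
  rw [show uu (Fin.last 6) = 1 by decide +kernel, map_one]
  exact (X.sq _).symm

theorem natH_uu2 (g : Perm (Fin 7)) (i j : Fin 7) : natH g (uu i * uu j) = uu (g i) * uu (g j) := by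
  rw [map_mul, natH_uu, natH_uu, mul_mul_mul_comm, X.sq, mul_one]

theorem natH_mul (g h : Perm (Fin 7)) (x : V) : natH (g * h) x = natH g (natH h x) :=
  DFunLike.congr_fun (hom_ext6 (f := natH (g * h)) (g := (natH g).comp (natH h)) fun i => by
    show natH (g * h) (uu i.castSucc) = natH g (natH h (uu i.castSucc))
    rw [natH_uu, natH_uu, natH_uu2]; rfl) x

theorem natH_one (x : V) : natH 1 x = x :=
  DFunLike.congr_fun (hom_ext6 (f := natH 1) (g := MonoidHom.id V) fun i => by
    show natH 1 (uu i.castSucc) = uu i.castSucc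
    rw [natH_uu]
    exact (congrArg _ (show uu 6 = 1 by decide +kernel)).trans (mul_one _)) x

/-- `V` as the module of even vectors on seven points -/
def nat7 : Perm (Fin 7) →* MulAut V := MonoidHom.mk'
  (fun g => ⟨⟨natH g, natH g⁻¹, fun x => by rw [← natH_mul, inv_mul_cancel, natH_one],
    fun x => by rw [← natH_mul, mul_inv_cancel, natH_one]⟩, map_mul (natH g)⟩) fun g h => MulEquiv.ext (natH_mul g h)

theorem nat7_ee (g : Perm (Fin 7)) (i j : Fin 7) : nat7 g (ee i j) = ee (g i) (g j) := by
  rw [ee_eq, ee_eq]; exact natH_uu2 g i j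

theorem act_eq (p : D8) : act p = nat7 (pm p) := aut_ext6 fun i => by
  rw [show X.bs i = ee i.castSucc 6 by revert i; decide +kernel, nat7_ee]
  revert p i
  decide +kernel

/-- `(024)(135)` -/
def r2 : Perm (Fin 7) := ⟨![2, 3, 4, 5, 0, 1, 6], ![4, 5, 0, 1, 2, 3, 6], by decide, by decide⟩

/-! ### `B` and its letters -/

/-- the six letters -/
def lc (x : W) (i : Fin 6) : Bool :=
  Nat.testBit (Nat.lor x.val (cond (Nat.testBit (nat_lit 0x96696996) x.val) 32 0)) i.val
/-- `f_i + f_5` -/
def fu (i : Fin 6) : W := X.mk 5 (2 ^ i.val)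
/-- `f_i + f_j` -/
def ff (i j : Fin 6) : W := X.mk 5 (Nat.xor (2 ^ i.val) (2 ^ j.val))
/-- the weight on the letters -/
def lw (x : W) : ℕ := (Finset.univ.filter fun i : Fin 6 => lc x i = true).card

theorem ff_eq : ∀ i j, ff i j = fu i * fu j := by decide +kernel

def natW (g : Perm (Fin 6)) : W →* W := X.lift (fun i => fu (g i.castSucc) * fu (g 5)) fun _ => X.sq _

theorem natW_fu (g : Perm (Fin 6)) (i : Fin 6) : natW g (fu i) = fu (g i) * fu (g 5) := by
  refine Fin.lastCases ?_ (fun i => X.lift_bs _ _ i) i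
  rw [show fu (Fin.last 5) = 1 by decide +kernel, map_one]
  exact (X.sq _).symm

theorem natW_fu2 (g : Perm (Fin 6)) (i j : Fin 6) : natW g (fu i * fu j) = fu (g i) * fu (g j) := by
  rw [map_mul, natW_fu, natW_fu, mul_mul_mul_comm, X.sq, mul_one]

theorem natW_mul (g h : Perm (Fin 6)) (x : W) : natW (g * h) x = natW g (natW h x) :=
  DFunLike.congr_fun (hom_ext5 (f := natW (g * h)) (g := (natW g).comp (natW h)) fun i => by
    show natW (g * h) (fu i.castSucc) = natW g (natW h (fu i.castSucc))
    rw [natW_fu, natW_fu, natW_fu2]; rfl) x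

theorem natW_one (x : W) : natW 1 x = x :=
  DFunLike.congr_fun (hom_ext5 (f := natW 1) (g := MonoidHom.id W) fun i => by
    show natW 1 (fu i.castSucc) = fu i.castSucc
    rw [natW_fu]
    exact (congrArg _ (show fu 5 = 1 by decide +kernel)).trans (mul_one _)) x

/-- `W` as the module of even vectors on six letters -/
def nat6 : Perm (Fin 6) →* MulAut W := MonoidHom.mk'
  (fun g => ⟨⟨natW g, natW g⁻¹, fun x => by rw [← natW_mul, inv_mul_cancel, natW_one],
    fun x => by rw [← natW_mul, mul_inv_cancel, natW_one]⟩, map_mul (natW g)⟩) fun g h => MulEquiv.ext (natW_mul g h)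

theorem nat6_ff (g : Perm (Fin 6)) (i j : Fin 6) : nat6 g (ff i j) = ff (g i) (g j) := by
  rw [ff_eq, ff_eq]; exact natW_fu2 g i j

def LbF (x : W) : T :=
  ⟨X.mk 6 (Nat.shiftRight (nat_lit 0x3f0cf0cc03c08f07f07c08c0830730700800330c30c003000f0ff0fc00c0bf04f04c0bc0b30430400b00030f30f0000) (Nat.mul 12 x.val)),
    D8.mk (Nat.shiftRight (nat_lit 0x3f0cf0cc03c08f07f07c08c0830730700800330c30c003000f0ff0fc00c0bf04f04c0bc0b30430400b00030f30f0000) (Nat.add (Nat.mul 12 x.val) 6))⟩
/-- `B = ⟨v_0, v_1, v_2, c, u⟩`: `v_i = f_{2i} + f_{2i+1}`, `c = f_0 + f_2`, `u = f_2 + f_4` -/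
def Lb : W →* T := MonoidHom.mk' LbF (by decide +kernel)
/-- a left inverse of `Lb` -/
def Lbi (t : T) : W :=
  X.mk 5 (Nat.shiftRight (nat_lit 0xe00000d00000000000000000200000100000000000000000000000000000000000000000000000000000000000000001e00001d0000000000000000120000110b00000800000000000000000700000400000000000000000000000000000000000000000000000000000000000000001b0000180000000000000000170000141a00001900000000000000001600001500000000000000000000000000000000000000000000000000000000000000000a0000090000000000000000060000051f00001c00000000000000001300001000000000000000000000000000000000000000000000000000000000000000000f00000c000000000000000003000000) (Nat.mul 8 (Nat.add (Nat.mul 64 t.right.val) t.left.val)))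

theorem Lbi_Lb : ∀ x, Lbi (Lb x) = x := by decide +kernel
theorem Lb_inj : Function.Injective Lb := Function.LeftInverse.injective Lbi_Lb
theorem Lb_conj : ∀ t : T, ∀ x : W, Lb (Lbi (t * Lb x * t⁻¹)) = t * Lb x * t⁻¹ := by decide +kernel

/-- the action of `T` on `B` -/
def lact : T →* MulAut W := MonoidHom.mk'
  (fun t => ⟨⟨fun x => Lbi (t * Lb x * t⁻¹), fun x => Lbi (t⁻¹ * Lb x * t⁻¹⁻¹),
    fun x => Lb_inj (by rw [Lb_conj, Lb_conj]; group), fun x => Lb_inj (by rw [Lb_conj, Lb_conj]; group)⟩,
    fun x y => Lb_inj (by rw [map_mul Lb (Lbi _), Lb_conj, Lb_conj, Lb_conj, map_mul]; group)⟩)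
  fun s t => MulEquiv.ext fun x => Lb_inj (by
    show Lb (Lbi _) = Lb (Lbi (s * Lb (Lbi _) * s⁻¹))
    rw [Lb_conj, Lb_conj, Lb_conj]; group)

theorem Lb_lact (t : T) (x : W) : Lb (lact t x) = t * Lb x * t⁻¹ := Lb_conj t x

theorem T_ind {K : Subgroup T} (h1 : ∀ i, ia (X.bs i) ∈ K) (hu : ip du ∈ K) (hs : ip ds ∈ K) (t : T) : t ∈ K := by
  rw [← SemidirectProduct.inl_left_mul_inr_right t]
  refine mul_mem (mem_of_bs6 (K := K.comap ia) h1 _) ?_
  have hc : ip dc ∈ K := (show ip du * ip ds * ip du * ip ds = ip dc by decide +kernel) ▸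
    mul_mem (mul_mem (mul_mem hu hs) hu) hs
  rcases (by decide +kernel : ∀ p : D8, ip p = 1 ∨ ip p = ip dc ∨ ip p = ip du ∨ ip p = ip ds ∨ ip p = ip dc * ip du ∨
      ip p = ip dc * ip ds ∨ ip p = ip du * ip ds ∨ ip p = ip dc * ip du * ip ds) t.right with
    e | e | e | e | e | e | e | e <;> rw [e] <;> simp only [one_mem, mul_mem, hc, hu, hs]

/-! ### subgroups of `T` and the shadow -/

/-- the subgroup of `T` given by a character -/
def subT (p : T → Bool) (h : ∀ a b, p (a * b) = xor (p a) (p b)) : Subgroup T where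
  carrier := {a | p a = false}
  mul_mem' := fun {a b} ha hb => by
    show p (a * b) = false
    rw [h, show p a = false from ha, show p b = false from hb]; rfl
  one_mem' := by
    have := h 1 1
    rw [mul_one, Bool.xor_self] at this
    exact this
  inv_mem' := fun {a} ha => by
    have e := h 1 1
    rw [mul_one, Bool.xor_self] at e
    have := h a⁻¹ a
    rw [inv_mul_cancel, e, show p a = false from ha, Bool.xor_false] at this
    exact this.symm
instance instDecSubT (p h) : DecidablePred (· ∈ subT p h) := fun a => inferInstanceAs (Decidable (p a = false))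

theorem chi_left {f : V → Bool} (h : ∀ p : D8, ∀ x y, f (x * actF p y) = xor (f x) (f y)) (a b : T) :
    f (a * b).left = xor (f a.left) (f b.left) := h _ _ _
theorem chi_right {f : D8 → Bool} (h : ∀ p q, f (p * q) = xor (f p) (f q)) (a b : T) :
    f (a * b).right = xor (f a.right) (f b.right) := h _ _

/-- `P₁ = A⟨c, s⟩` -/
abbrev P1 : Subgroup T := subT (fun t => Nat.testBit t.right.val 1) (chi_right (f := fun p => Nat.testBit p.val 1) (by decide +kernel))
/-- `P₂ = A⟨c, u⟩` -/
abbrev P2 : Subgroup T := subT (fun t => Nat.testBit t.right.val 2) (chi_right (f := fun p => Nat.testBit p.val 2) (by decide +kernel))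
/-- `P₃`: the first four bits have even parity -/
abbrev P3 : Subgroup T := subT (fun t => p4 t.left) (chi_left (by decide +kernel))
/-- `S₀`: the six bits have even parity -/
abbrev S0 : Subgroup T := subT (fun t => par t.left) (chi_left (by decide +kernel))

/-- the shadow in `V` of an involution of `T` -/
def sh (t : T) : V :=
  X.mk 6 (if t.right.val = 0 then t.left.val else if t.right.val = 1 then Nat.xor 3 (Nat.land t.left.val 48)
    else if t.right.val = 4 then Nat.xor 5 (Nat.land t.left.val 48)
    else if t.right.val = 5 then Nat.xor 9 (Nat.land t.left.val 48)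
    else if t.right.val = 2 then Nat.xor 12 (Nat.land t.left.val 3) else Nat.xor 3 (Nat.land t.left.val 12))

theorem sh_ia : ∀ x, sh (ia x) = x := by decide +kernel
theorem wt_sh_Lb : ∀ x, wt (sh (Lb x)) = lw x := by decide +kernel

end Cfsg.Agent.O7
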