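import Cfsg.Agent.O7.Defs

/-! The orbit of `z`: the finite check (notes/O7.md, section Orb). -/

set_option autoImplicit false
set_option maxRecDepth 100000
set_option synthInstance.maxSize 4096

namespace Cfsg.Agent.O7.Orb

open Cfsg.Agent.H14
open Cfsg.Agent.Y16 (X)

/-- the number of the `D8`-orbit: `12` for `z`, `13` for the squares -/
def idx (x : ℕ) : ℕ :=
  Nat.land (Nat.shiftRight (nat_lit 0xcbbdbaa9baa9d99d87747653756343328774756376534332d11d1dd01dd0d00d) (Nat.mul 4 x)) 15
/-- representatives of the orbits -/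
def rep (j : ℕ) : ℕ := Nat.land (Nat.shiftRight (nat_lit 0x3f3735311f1716151311100701) (Nat.mul 8 j)) 255
/-- a bit as a number -/
def bt (k j : ℕ) : ℕ := Nat.land (Nat.shiftRight k j) 1
/-- the indicator function of the union of orbits number `k` -/
def ob (k x : ℕ) : ℕ := bt k (idx x)

noncomputable def mm (k v : ℕ) : ℕ := sumN 64 fun y => cond (Nat.beq (ob k y) 0) 0 (ob k (Nat.xor v y))
noncomputable def sb (k x : ℕ) : ℕ := sumN 64 fun y => cond (Nat.beq (ob k y) 0) 0 (mm k (Nat.xor x y))
noncomputable def sc (k F : ℕ) : ℕ := sumN 64 fun v => cond (Nat.beq (bt F v) 0) 0 (mm k v)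
noncomputable def cst (k : ℕ) (f : ℕ → ℕ) : Bool :=
  force (f 63) fun m => allN 12 fun j => cond (Nat.beq (bt k j) 0) true (Nat.beq (f (rep j)) m)
def FU : ℕ := nat_lit 0xf00f00000000f00f
def FC : ℕ := nat_lit 0x9009900990099009
def LL : List ℕ := [4096, 4101, 4102, 4353, 4354, 4612, 4864, 5230, 5349, 5481, 5602, 5860, 5992, 6148, 6400, 7276, 7648]

noncomputable def chk (k : ℕ) : Bool :=
  bimp (cst k (mm k)) (cond (anyL LL (Nat.beq k)) true (bimp (Nat.beq (sc k FU) (sc k FC)) (bimp (cst k (sb k)) false)))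

theorem chk0 : all2 16 64 (fun i => force (Nat.add i 4096) chk) = true := by decide +kernel
theorem chk1 : all2 16 64 (fun i => force (Nat.add i 5120) chk) = true := by decide +kernel
theorem chk2 : all2 16 64 (fun i => force (Nat.add i 6144) chk) = true := by decide +kernel
theorem chk3 : all2 16 64 (fun i => force (Nat.add i 7168) chk) = true := by decide +kernel

theorem chk_all (k : ℕ) (h1 : 4096 ≤ k) (h2 : k < 8192) : chk k = true := by
  have key : ∀ b : ℕ, all2 16 64 (fun i => force (Nat.add i b) chk) = true → b ≤ k → k < b + 1024 → chk k = true :=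
    fun b h a c => by
      have := all2_iff.1 h (k - b) (by omega)
      rwa [force_eq, show Nat.add (k - b) b = k from Nat.sub_add_cancel a] at this
  by_cases a : k < 5120
  · exact key _ chk0 h1 a
  by_cases b : k < 6144
  · exact key _ chk1 (by omega) b
  by_cases c : k < 7168
  · exact key _ chk2 (by omega) c
  · exact key _ chk3 (by omega) h2

/-- the changes of coordinates -/
def kf (a : Fin 8) (x : V) : V :=
  x * cond (p4 x) (X.mk 6 (Nat.shiftRight (nat_lit 0x3f300f003f300f00) (Nat.mul 8 a.val))) 1 *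
    cond (Nat.testBit 6 (Nat.shiftRight x.val 4)) (X.mk 6 (Nat.shiftRight (nat_lit 0x0f0f0f0f00000000) (Nat.mul 8 a.val))) 1

theorem kf_mul : ∀ a x y, kf a (x * y) = kf a x * kf a y := by decide +kernel
theorem kf_kf : ∀ a x, kf a (kf a x) = x := by decide +kernel
theorem kf_act : ∀ a d x, kf a (actF d x) = actF d (kf a x) := by decide +kernel
theorem kf_zz : ∀ a, kf a zz = zz := by decide +kernel

theorem fin : ∀ k ∈ LL, (∀ x : V, ob k x.val = 1 → x = zz) ∨
    ∃ a, (∀ x, ob k (kf a x).val = 1 ↔ ∃ i, x = zi i) ∨ (∀ x, ob k (kf a x).val = 1 ↔ ty x = 3) := by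
  decide +kernel

theorem idx_spec : ∀ x : V, (idx x.val < 13 ∧ ∃ d, x = actF d (X.mk 6 (rep (idx x.val)))) ∨
    (idx x.val = 13 ∧ ∃ d : D8, d * d = 1 ∧ ∃ w, x = w * actF d w) := by decide +kernel
theorem rep_val : ∀ j < 13, (X.mk 6 (rep j)).val = rep j := by decide +kernel
theorem rep_zz : X.mk 6 (rep 12) = zz := by decide +kernel
theorem nsq : ∀ d, (∀ x, actF d (actF d x) = x) → ∀ w, w * actF d w ≠ zz := by decide +kernel
theorem act_zz : ∀ d, actF d zz = zz := by decide +kernel
theorem bt_FU : ∀ x : V, bt FU x.val = 0 ↔ actF du x ≠ x := by decide +kernel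
theorem bt_FC : ∀ x : V, bt FC x.val = 0 ↔ actF dc x ≠ x := by decide +kernel

end Cfsg.Agent.O7.Orb
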